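import Cfsg.Agent.Lib.Helper4.Orb.C3.Trans
import Cfsg.Agent.Lib.Helper4.CoStabBase

set_option autoImplicit false
set_option linter.style.haveILetI false
set_option linter.unusedVariables false
set_option linter.unusedSectionVars false

/-! The stabiliser of a vector of sum of squares 48: the 552 and the 11178 minimal vectors. -/

namespace Cfsg.Agent.Helper4.CO.C3

open Cfsg Cfsg.Agent.Helper4.CO

theorem anc1_eq : anc1 = zeroL := by decide

theorem anc2_eq : anc2 = zeroL := by decide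

theorem exists_based (u : leechLattice) (hu : sqNorm (u : GolayPt → ℤ) = 48) :
    ∃ h : Co0, Based h u 0 0 anc0 anc1 anc2 := by
  obtain ⟨h, hh⟩ := exists_move48 anc0 anc0_in (by decide) u hu
  exact ⟨h, based_one u anc0 anc1 anc2 h hh (toV_zero_of_eq anc1_eq) (toV_zero_of_eq anc2_eq)⟩

theorem card_P (u : leechLattice) (hu : sqNorm (u : GolayPt → ℤ) = 48) :
    (dotSet 32 u 0 0 (24, 0, 0)).ncard = 552 := by
  obtain ⟨h, hb⟩ := exists_based u hu
  rw [hb.ncard anc0_in.1 anc1_in.1 anc2_in.1, countP]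

theorem card_Q (u : leechLattice) (hu : sqNorm (u : GolayPt → ℤ) = 48) :
    (dotSet 32 u 0 0 (-16, 0, 0)).ncard = 11178 := by
  obtain ⟨h, hb⟩ := exists_based u hu
  rw [hb.ncard anc0_in.1 anc1_in.1 anc2_in.1, countQ]

theorem trans_P (u : leechLattice) (hu : sqNorm (u : GolayPt → ℤ) = 48) {x x' : leechLattice}
    (hx : x ∈ dotSet 32 u 0 0 (24, 0, 0)) (hx' : x' ∈ dotSet 32 u 0 0 (24, 0, 0)) :
    ∃ g : Co0, g • u = u ∧ g • x = x' := by
  obtain ⟨h, hb⟩ := exists_based u hu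
  obtain ⟨g, h1, _, _, h2⟩ := hb.trans transP hx hx'
  exact ⟨g, h1, h2⟩

theorem trans_Q (u : leechLattice) (hu : sqNorm (u : GolayPt → ℤ) = 48) {x x' : leechLattice}
    (hx : x ∈ dotSet 32 u 0 0 (-16, 0, 0)) (hx' : x' ∈ dotSet 32 u 0 0 (-16, 0, 0)) :
    ∃ g : Co0, g • u = u ∧ g • x = x' := by
  obtain ⟨h, hb⟩ := exists_based u hu
  obtain ⟨g, h1, _, _, h2⟩ := hb.trans transQ hx hx'
  exact ⟨g, h1, h2⟩

end Cfsg.Agent.Helper4.CO.C3
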