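import Cfsg.Agent.Lib.Helper4.CoOrbitCount
import Cfsg.Agent.Lib.Helper4.Orb.C3.Cfg

set_option autoImplicit false
set_option linter.style.haveILetI false
set_option linter.unusedVariables false
set_option linter.unusedSectionVars false
set_option Elab.async false

/-! A count of vectors with prescribed inner products (kernel computation). -/

namespace Cfsg.Agent.Helper4.CO.C3

open Cfsg Cfsg.Agent.Helper4.CO

set_option maxRecDepth 1000000 in
theorem countP_p : part1 anc0 anc1 anc2 (24, 0, 0) = 23 := by decide +kernel

set_option maxRecDepth 1000000 in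
theorem countP_b0 : partB anc0 anc1 anc2 (24, 0, 0) 0 = 5 := by decide +kernel

set_option maxRecDepth 1000000 in
theorem countP_b1 : partB anc0 anc1 anc2 (24, 0, 0) 1 = 16 := by decide +kernel

set_option maxRecDepth 1000000 in
theorem countP_b2 : partB anc0 anc1 anc2 (24, 0, 0) 2 = 16 := by decide +kernel

set_option maxRecDepth 1000000 in
theorem countP_b3 : partB anc0 anc1 anc2 (24, 0, 0) 3 = 40 := by decide +kernel

set_option maxRecDepth 1000000 in
theorem countP_b4 : partB anc0 anc1 anc2 (24, 0, 0) 4 = 16 := by decide +kernel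

set_option maxRecDepth 1000000 in
theorem countP_b5 : partB anc0 anc1 anc2 (24, 0, 0) 5 = 40 := by decide +kernel

set_option maxRecDepth 1000000 in
theorem countP_b6 : partB anc0 anc1 anc2 (24, 0, 0) 6 = 40 := by decide +kernel

set_option maxRecDepth 1000000 in
theorem countP_b7 : partB anc0 anc1 anc2 (24, 0, 0) 7 = 80 := by decide +kernel

set_option maxRecDepth 1000000 in
theorem countP_b8 : partB anc0 anc1 anc2 (24, 0, 0) 8 = 80 := by decide +kernel

set_option maxRecDepth 1000000 in
theorem countP_b9 : partB anc0 anc1 anc2 (24, 0, 0) 9 = 40 := by decide +kernel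

set_option maxRecDepth 1000000 in
theorem countP_b10 : partB anc0 anc1 anc2 (24, 0, 0) 10 = 40 := by decide +kernel

set_option maxRecDepth 1000000 in
theorem countP_b11 : partB anc0 anc1 anc2 (24, 0, 0) 11 = 16 := by decide +kernel

set_option maxRecDepth 1000000 in
theorem countP_b12 : partB anc0 anc1 anc2 (24, 0, 0) 12 = 40 := by decide +kernel

set_option maxRecDepth 1000000 in
theorem countP_b13 : partB anc0 anc1 anc2 (24, 0, 0) 13 = 16 := by decide +kernel

set_option maxRecDepth 1000000 in
theorem countP_b14 : partB anc0 anc1 anc2 (24, 0, 0) 14 = 16 := by decide +kernel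

set_option maxRecDepth 1000000 in
theorem countP_b15 : partB anc0 anc1 anc2 (24, 0, 0) 15 = 28 := by decide +kernel

theorem countP : fast32 anc0 anc1 anc2 (24, 0, 0) = 552 := by
  rw [fast32_parts, countP_p, countP_b0, countP_b1, countP_b2, countP_b3, countP_b4, countP_b5, countP_b6, countP_b7, countP_b8, countP_b9, countP_b10, countP_b11, countP_b12, countP_b13, countP_b14, countP_b15]

end Cfsg.Agent.Helper4.CO.C3
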