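import Cfsg.Agent.Lib.Helper4.CoOrbitCount
import Cfsg.Agent.Lib.Helper4.Orb.C3.Cfg

set_option autoImplicit false
set_option linter.style.haveILetI false
set_option linter.unusedVariables false
set_option linter.unusedSectionVars false
set_option Elab.async false

/-! A count of vectors with prescribed inner products (kernel computation). -/

namespace Cfsg.Agent.Helper4.CO.C3

open Cfsg Cfsg.Agent.Helper4.CO

set_option maxRecDepth 1000000 in
theorem countQ_p : part1 anc0 anc1 anc2 (-16, 0, 0) = 23 := by decide +kernel

set_option maxRecDepth 1000000 in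
theorem countQ_b0 : partB anc0 anc1 anc2 (-16, 0, 0) 0 = 1170 := by decide +kernel

set_option maxRecDepth 1000000 in
theorem countQ_b1 : partB anc0 anc1 anc2 (-16, 0, 0) 1 = 720 := by decide +kernel

set_option maxRecDepth 1000000 in
theorem countQ_b2 : partB anc0 anc1 anc2 (-16, 0, 0) 2 = 720 := by decide +kernel

set_option maxRecDepth 1000000 in
theorem countQ_b3 : partB anc0 anc1 anc2 (-16, 0, 0) 3 = 360 := by decide +kernel

set_option maxRecDepth 1000000 in
theorem countQ_b4 : partB anc0 anc1 anc2 (-16, 0, 0) 4 = 720 := by decide +kernel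

set_option maxRecDepth 1000000 in
theorem countQ_b5 : partB anc0 anc1 anc2 (-16, 0, 0) 5 = 360 := by decide +kernel

set_option maxRecDepth 1000000 in
theorem countQ_b6 : partB anc0 anc1 anc2 (-16, 0, 0) 6 = 360 := by decide +kernel

set_option maxRecDepth 1000000 in
theorem countQ_b7 : partB anc0 anc1 anc2 (-16, 0, 0) 7 = 144 := by decide +kernel

set_option maxRecDepth 1000000 in
theorem countQ_b8 : partB anc0 anc1 anc2 (-16, 0, 0) 8 = 1840 := by decide +kernel

set_option maxRecDepth 1000000 in
theorem countQ_b9 : partB anc0 anc1 anc2 (-16, 0, 0) 9 = 1016 := by decide +kernel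

set_option maxRecDepth 1000000 in
theorem countQ_b10 : partB anc0 anc1 anc2 (-16, 0, 0) 10 = 1016 := by decide +kernel

set_option maxRecDepth 1000000 in
theorem countQ_b11 : partB anc0 anc1 anc2 (-16, 0, 0) 11 = 496 := by decide +kernel

set_option maxRecDepth 1000000 in
theorem countQ_b12 : partB anc0 anc1 anc2 (-16, 0, 0) 12 = 1016 := by decide +kernel

set_option maxRecDepth 1000000 in
theorem countQ_b13 : partB anc0 anc1 anc2 (-16, 0, 0) 13 = 496 := by decide +kernel

set_option maxRecDepth 1000000 in
theorem countQ_b14 : partB anc0 anc1 anc2 (-16, 0, 0) 14 = 496 := by decide +kernel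

set_option maxRecDepth 1000000 in
theorem countQ_b15 : partB anc0 anc1 anc2 (-16, 0, 0) 15 = 225 := by decide +kernel

theorem countQ : fast32 anc0 anc1 anc2 (-16, 0, 0) = 11178 := by
  rw [fast32_parts, countQ_p, countQ_b0, countQ_b1, countQ_b2, countQ_b3, countQ_b4, countQ_b5, countQ_b6, countQ_b7, countQ_b8, countQ_b9, countQ_b10, countQ_b11, countQ_b12, countQ_b13, countQ_b14, countQ_b15]

end Cfsg.Agent.Helper4.CO.C3
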