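import Cfsg.Agent.Lib.Helper4.CoNodup
import Cfsg.Agent.Lib.Helper4.Orb.C3.PF0

set_option autoImplicit false
set_option linter.style.haveILetI false
set_option linter.unusedVariables false
set_option linter.unusedSectionVars false

/-! Orbit certificate assembly (generated data). -/

namespace Cfsg.Agent.Helper4.CO.C3

open Cfsg Cfsg.Agent.Helper4.CO

/-- the full chunks -/
def tnP : List (List ℕ × ℕ) :=
  []

/-- the chunks -/
def chunksP : List (List ℕ × List ℕ) := mkChunks 2000 tnP tapeP0 552 numP0

theorem chunksP_ok : ∀ ch ∈ chunksP, chunkOK gens startP ch.1 ch.2 = true := by
  apply mem_mkChunks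
  · intro p hp
    simp [tnP] at hp
  · exact okP0

/-- positions in increasing order of the keys -/
def sigmaP : List ℕ := flatW 17 2000
  []
  552 0x8d805cc026801d100cb805e403ba01c400af8054c0352021300d0806d40340013e00c0007dc027401f300980055802f402060094807f0027e01ad00b90076802a801b700c08085002ae01ea00b8006f802bc012a00a1006f4034c016b00b200528034a01db00c8804a0033c016800f880760032c01b400a6005480266014800db008140282012400aa805a8029e015100dc0052403c2013500ec805d003d201b900b60058c00b6006200298013c00b2005600270016000b8005400318005800b400f1002f8032800a400db006e8003c006a00640019802ec00e4006f0075001440224001c0033001f80100010b007c003d400a0008d00500027c007200040022800e00060010f0019001c0015a009a002e803a401d6000d0084000a4001800b1005180014012200cd00258005000ea00fe00868008c001400e4002b801c4014400cc008300108020a0007003e003a0002e006d0017003f401ec00f70080800bc00fa00260010802780154002c006f002cc01c00095003980154010600c300780044c0218009c004a000dc007e00d5005a80118016e00360065802c000680096003a002fc01fe001d00818044001e400cf000880100003c006e005c802b0014200ba006e0019401c60044003d8021400c20041005a002380016009b0052801e80086002d0088801e401800093003c00308018e00df0004800f001ce00ed00640033801f200810055802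9001dc004d0012002f8000c010e006480400007c00b600490036001d800120025004080212004c00128004c020800150059000ec018200ef00110006c0000006001118077c03a0016600c20058003e801b000c100804036201d600e2806c803ec0136009e007b802fe01fe010a8052c03c6012d00e000808024a01af00dd8060c03d8015b00fc808480410012c00f7807d402e201cd010d004ac02c2015000c78065403fe017500c4006a0031601450106807380332016500f8008940378018c00e180518026e018700ce8085c032001a200ea0086c0414013b00bf008100366020000b100778024e018a00f00066c043e017c00f300650035c014000b48082402ec01a30107006ac0398012600d5006e8022a018e009c007e8032601c700c3005680262014e00eb80690043201e40107808300438018900a3805740358017800ae0087803a6015900be808600392011a00b7005dc02ce01c1010e806600264012f00ee00754027201eb01100073c029a01c200fc007b403c4022600bd806700390014400df807f403ce01a700ac007a0040e02160097004500416021000f9006340324013d00a18072c0232019a00e30072802da01e50111006140422016f00fd80484033e011f01018046003a40221008f0048c02380224008b0045c023a012200900089c003e00e200578026001ca008800238019c014e00ae0045801a801ac000e005e8036401e60031006b8000c01180069005e00004005000e60024003e8021400d30045001fc01500020007080368010e001a00630006000560068004c801d8004e002a007e001dc01120082006880350001000c5007a001ac020e0002001d0004000d8009d00690025c01a000c4007d802e00152001900248023c01080086004800298007a005e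

set_option maxRecDepth 1000000 in
theorem certP : certOK 2000 (tnP.map fun p => p.2) 552 numP0 sigmaP = true := by
  decide +kernel

theorem chunksP_nd : (chunksP.flatMap fun ch => ch.2).Nodup :=
  nodup_mkChunks 2000 tnP tapeP0 552 numP0 sigmaP certP

theorem chunksP_len : (chunksP.flatMap fun ch => ch.2).length = 552 := by
  unfold chunksP
  rw [length_mkChunks]
  decide

end Cfsg.Agent.Helper4.CO.C3
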