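import Cfsg.Agent.Lib.Helper4.Orb.C3.P
import Cfsg.Agent.Lib.Helper4.Orb.C3.CountP
import Cfsg.Agent.Lib.Helper4.Orb.C3.Q
import Cfsg.Agent.Lib.Helper4.Orb.C3.CountQ

set_option autoImplicit false
set_option linter.style.haveILetI false
set_option linter.unusedVariables false
set_option linter.unusedSectionVars false

/-! Transitivity of a stabiliser on sets of vectors with prescribed inner products. -/

namespace Cfsg.Agent.Helper4.CO.C3

open Cfsg Cfsg.Agent.Helper4.CO

theorem ncardP : (statSet 32 anc0 anc1 anc2 (24, 0, 0)).ncard = (chunksP.flatMap fun ch => ch.2).length := by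
  rw [chunksP_len, ncard_statSet anc0 anc1 anc2 anc0_in.1 anc1_in.1 anc2_in.1, countP]

theorem transP : ∀ x ∈ statSet 32 anc0 anc1 anc2 (24, 0, 0), ∀ y ∈ statSet 32 anc0 anc1 anc2 (24, 0, 0),
    ∃ g : Co0, (∀ a ∈ anchors, FixL g a) ∧ g • x = y :=
  orbit_trans' anchors gens gensOK startP startP_in (by decide) _
    (mem_statSet_mkL 32 anc0 anc1 anc2 (24, 0, 0) anc0_in.1 anc1_in.1 anc2_in.1 startP startP_in
      (by decide) (by decide))
    (statSet_inv 32 anc0 anc1 anc2 (24, 0, 0) anc0_in anc1_in anc2_in) chunksP chunksP_ok chunksP_nd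
    ncardP (Set.finite_of_ncard_ne_zero (by rw [ncardP, chunksP_len]; norm_num))

theorem ncardQ : (statSet 32 anc0 anc1 anc2 (-16, 0, 0)).ncard = (chunksQ.flatMap fun ch => ch.2).length := by
  rw [chunksQ_len, ncard_statSet anc0 anc1 anc2 anc0_in.1 anc1_in.1 anc2_in.1, countQ]

theorem transQ : ∀ x ∈ statSet 32 anc0 anc1 anc2 (-16, 0, 0), ∀ y ∈ statSet 32 anc0 anc1 anc2 (-16, 0, 0),
    ∃ g : Co0, (∀ a ∈ anchors, FixL g a) ∧ g • x = y :=
  orbit_trans' anchors gens gensOK startQ startQ_in (by decide) _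
    (mem_statSet_mkL 32 anc0 anc1 anc2 (-16, 0, 0) anc0_in.1 anc1_in.1 anc2_in.1 startQ startQ_in
      (by decide) (by decide))
    (statSet_inv 32 anc0 anc1 anc2 (-16, 0, 0) anc0_in anc1_in anc2_in) chunksQ chunksQ_ok chunksQ_nd
    ncardQ (Set.finite_of_ncard_ne_zero (by rw [ncardQ, chunksQ_len]; norm_num))

end Cfsg.Agent.Helper4.CO.C3
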